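import Groth.Prelude.Def_CotT
import Groth.Agent.DefAff.Scheme
import Groth.Agent.ArtFunLib.Small
import Groth.Agent.TFun.Artinian
import Mathlib.RingTheory.MvPolynomial.Ideal
import Mathlib.Algebra.Module.Projective

/-!
# Lifting relations: when `T² = 0` deformations lift along small extensions
-/

set_option autoImplicit false
set_option backward.isDefEq.respectTransparency false
set_option maxHeartbeats 500000
universe u w s₁

open CategoryTheory ArtFun IsLocalRing TensorProduct MvPolynomial

namespace Groth.Agent.RelLift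

theorem le_of_le_sup_smul {A : Type u} [CommRing A] [IsArtinianRing A] [IsLocalRing A]
    {M : Type*} [AddCommGroup M] [Module A M] {N L : Submodule A M}
    (h : L ≤ N ⊔ maximalIdeal A • L) : L ≤ N := by
  obtain ⟨n, hn⟩ := IsArtinianRing.isNilpotent_jacobson_bot (R := A)
  rw [IsLocalRing.jacobson_eq_maximalIdeal ⊥ bot_ne_top] at hn
  have key : ∀ i : ℕ, L ≤ N ⊔ maximalIdeal A ^ i • L := by
    intro i
    induction i with
    | zero => simp
    | succ i ih =>
      refine ih.trans (sup_le le_sup_left ((Submodule.smul_mono le_rfl h).trans ?_))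
      rw [Submodule.smul_sup, pow_succ, Submodule.mul_smul]
      exact sup_le_sup_right Submodule.smul_le_right _
  simpa [hn] using key n

theorem linearCombination_mapRange {S T : Type*} [CommRing S] [CommRing T] (φ : S →+* T) {σ : Type*}
    {g : σ → S} {g' : σ → T} (hg : ∀ s, φ (g s) = g' s) (u : σ →₀ S) :
    φ (Finsupp.linearCombination S g u) =
      Finsupp.linearCombination T g' (u.mapRange φ (_root_.map_zero φ)) := by
  induction u using Finsupp.induction_linear with
  | zero => simp
  | add a b ha hb => rw [map_add, map_add, ha, hb, Finsupp.mapRange_add (map_add φ), map_add]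
  | single s r => simp [hg]

theorem mapRange_smul_ringHom {S T : Type*} [CommRing S] [CommRing T] (φ : S →+* T) {σ : Type*}
    (r : S) (u : σ →₀ S) :
    (r • u).mapRange φ (_root_.map_zero φ) = φ r • u.mapRange φ (_root_.map_zero φ) := by
  ext s
  simp

variable {Λ k : Type u} [CommRing Λ] [Field k] [Algebra Λ k]
variable {B₀ : Type u} [CommRing B₀] [Algebra k B₀] {ι : Type w} {σ : Type s₁}
variable (P : Algebra.Presentation k B₀ ι σ)
variable {A' A : Art Λ k}

/-- Reduction of coefficients to `k`. -/
noncomputable def r0 (A : Art Λ k) : MvPolynomial ι A →+* P.toExtension.Ring :=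
  MvPolynomial.map A.res.toRingHom

theorem r0_C (c : A) : r0 P A (C c) = algebraMap k P.toExtension.Ring (A.res c) :=
  MvPolynomial.map_C A.res.toRingHom c

theorem r0_X (i : ι) : r0 P A (X i) = (X i : MvPolynomial ι k) :=
  MvPolynomial.map_X A.res.toRingHom i

theorem r0_surjective : Function.Surjective (r0 P A) :=
  MvPolynomial.map_surjective _ A.res_surjective

theorem mem_map_of_r0_eq_zero {x : MvPolynomial ι A} (h : r0 P A x = 0) :
    x ∈ (maximalIdeal A).map (C : A →+* MvPolynomial ι A) := by
  rw [MvPolynomial.mem_map_C_iff]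
  intro m
  rw [Art.mem_maximalIdeal_iff]
  exact (MvPolynomial.coeff_map A.res.toRingHom x m).symm.trans
    ((congrArg (MvPolynomial.coeff (R := k) m) h).trans (MvPolynomial.coeff_zero m))

/-- The reduction along a morphism. -/
noncomputable def rp (p : A' ⟶ A) : MvPolynomial ι A' →+* MvPolynomial ι A :=
  MvPolynomial.map p.toAlgHom.toRingHom

theorem r0_rp (p : A' ⟶ A) (x : MvPolynomial ι A') : r0 P A (rp p x) = r0 P A' x := by
  refine (MvPolynomial.map_map p.toAlgHom.toRingHom A.res.toRingHom x).trans ?_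
  exact congrArg (fun φ : A' →+* k => MvPolynomial.map φ x) (congrArg AlgHom.toRingHom p.res_comp)

theorem ev_C (c : k) :
    algebraMap P.toExtension.Ring B₀ (algebraMap k P.toExtension.Ring c) = algebraMap k B₀ c :=
  (IsScalarTower.algebraMap_apply k P.toExtension.Ring B₀ c).symm

theorem ev_X (i : ι) :
    algebraMap P.toExtension.Ring B₀ (X i : MvPolynomial ι k) = P.val i :=
  (CotT.algebraMap_toExtension P _).trans (MvPolynomial.aeval_X _ _)

theorem exists_extend (hT2 : Subsingleton (CotT.T2 P B₀))
    (obL : CotT.relKer P →ₗ[P.toExtension.Ring] B₀)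
    (hgen : ∀ (a b : CotT.relMod P) (h : CotT.jmap P a • b - CotT.jmap P b • a ∈ CotT.relKer P),
      obL ⟨_, h⟩ = 0) :
    ∃ ψ : CotT.L1 P →ₗ[B₀] B₀, ∀ q : CotT.relKer P,
      ψ ((1 : B₀) ⊗ₜ (q : CotT.relMod P)) = obL q := by
  have hK : CotT.trivRel P ≤ Submodule.map (CotT.relKer P).subtype (LinearMap.ker obL) := by
    refine Submodule.span_le.2 ?_
    rintro _ ⟨a, b, rfl⟩
    exact ⟨⟨_, CotT.trivRel_le_relKer P (Submodule.subset_span ⟨a, b, rfl⟩)⟩, hgen a b _, rfl⟩
  have hle : LinearMap.range ((CotT.trivRelKer P).subtype.baseChange B₀) ≤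
      LinearMap.ker (LinearMap.liftBaseChange B₀ obL) := by
    rintro _ ⟨z, rfl⟩
    induction z using TensorProduct.induction_on with
    | zero => simp
    | add a b ha hb => rw [map_add]; exact add_mem ha hb
    | tmul b c =>
      obtain ⟨z, hz, hz'⟩ := hK c.2
      rw [LinearMap.mem_ker, LinearMap.baseChange_tmul, LinearMap.liftBaseChange_tmul,
        Submodule.coe_subtype, show (c : CotT.relKer P) = z from (Subtype.ext hz').symm,
        show obL z = 0 from hz, smul_zero]
  let ξ : CotT.L2 P →ₗ[B₀] B₀ := Submodule.liftQ _ (LinearMap.liftBaseChange B₀ obL) hle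
  obtain ⟨ψ, hψ⟩ : ξ ∈ LinearMap.range (CotT.d2Star P B₀) :=
    (Submodule.Quotient.mk_eq_zero _).1 (Subsingleton.elim (Submodule.Quotient.mk ξ : CotT.T2 P B₀) 0)
  refine ⟨ψ, fun q => ?_⟩
  have h := LinearMap.congr_fun hψ (Submodule.Quotient.mk ((1 : B₀) ⊗ₜ q))
  rw [CotT.d2Star_apply, LinearMap.comp_apply, CotT.d2_mk_tmul] at h
  rw [h, Submodule.liftQ_apply, LinearMap.liftBaseChange_tmul, one_smul]

section Main

variable {P}
variable {p : A' ⟶ A} {t : A'}
variable (ht : RingHom.ker p.toAlgHom = Ideal.span {t})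
variable (htm : ∀ b b' : A', b * t = b' * t ↔ A'.res b = A'.res b')

include ht in
theorem exists_mul_of_rp_eq_zero {x : MvPolynomial ι A'} (h : rp p x = 0) : ∃ r, x = C t * r := by
  have hmem : x ∈ (RingHom.ker p.toAlgHom).map (C : A' →+* MvPolynomial ι A') := by
    rw [MvPolynomial.mem_map_C_iff]
    intro m
    exact (MvPolynomial.coeff_map p.toAlgHom.toRingHom x m).symm.trans
      ((congrArg (MvPolynomial.coeff m) h).trans (MvPolynomial.coeff_zero m))
  rw [ht, Ideal.map_span, Set.image_singleton, Ideal.mem_span_singleton] at hmem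
  exact hmem

include htm in
theorem mul_t_eq_iff (r r' : MvPolynomial ι A') : C t * r = C t * r' ↔ r0 P A' r = r0 P A' r' := by
  constructor
  · intro h
    refine MvPolynomial.ext _ _ fun m => ?_
    have h1 := congrArg (MvPolynomial.coeff m) h
    rw [MvPolynomial.coeff_C_mul, MvPolynomial.coeff_C_mul, mul_comm t, mul_comm t] at h1
    exact (MvPolynomial.coeff_map A'.res.toRingHom r m).trans
      (((htm _ _).1 h1).trans (MvPolynomial.coeff_map A'.res.toRingHom r' m).symm)
  · intro h
    refine MvPolynomial.ext _ _ fun m => ?_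
    rw [MvPolynomial.coeff_C_mul, MvPolynomial.coeff_C_mul, mul_comm t, mul_comm t]
    exact (htm _ _).2 ((MvPolynomial.coeff_map A'.res.toRingHom r m).symm.trans
      ((congrArg (MvPolynomial.coeff (R := k) m) h).trans (MvPolynomial.coeff_map A'.res.toRingHom r' m)))

include ht in
theorem rp_Ct : rp (ι := ι) p (C t) = 0 := by
  refine (MvPolynomial.map_C p.toAlgHom.toRingHom t).trans ?_
  have : t ∈ RingHom.ker p.toAlgHom := ht ▸ Ideal.mem_span_singleton_self t
  rw [show p.toAlgHom.toRingHom t = 0 from this, _root_.map_zero]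

include ht in
/-- With `T² = 0` a flat deformation lifts along a small extension. -/
theorem exists_flat_lift (hp : Art.IsSmallExt p) (hT2 : Subsingleton (CotT.T2 P B₀))
    (htm : ∀ b b' : A', b * t = b' * t ↔ A'.res b = A'.res b')
    {B : Type u} [CommRing B] (f : A →+* B) (q : B →+* B₀) (hf : f.Flat) (hq : Function.Surjective q)
    (hk : RingHom.ker q = (maximalIdeal A).map f)
    (hc : q.comp f = (algebraMap k B₀).comp A.res.toRingHom) :
    ∃ (B' : Type (max u w)) (_ : CommRing B') (f' : A' →+* B') (π' : B' →+* B),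
      f'.Flat ∧ Function.Surjective π' ∧ π'.comp f' = f.comp p.toAlgHom.toRingHom ∧
      RingHom.ker π' = (RingHom.ker p.toAlgHom).map f' ∧
      RingHom.ker (q.comp π') = (maximalIdeal A').map f' := by
  classical
  letI : Algebra A B := f.toAlgebra
  haveI : Module.Flat A B := hf
  haveI := Groth.Agent.TFun.free_of_flat (A := A) B
  let ev : P.toExtension.Ring →+* B₀ := algebraMap P.toExtension.Ring B₀
  choose bl hbl using fun i => hq (P.val i)
  let π : MvPolynomial ι A →ₐ[A] B := MvPolynomial.aeval bl
  have hqC : ∀ c : A, q (algebraMap A B c) = algebraMap k B₀ (A.res c) := fun c => RingHom.congr_fun hc c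
  have hqπ : ∀ x, q (π x) = ev (r0 P A x) := by
    intro x
    induction x using MvPolynomial.induction_on with
    | C c => rw [r0_C, MvPolynomial.aeval_C, hqC]; exact (ev_C P _).symm
    | add a b ha hb => rw [map_add, map_add, ha, hb, map_add, map_add]
    | mul_X a i ha =>
      rw [map_mul, map_mul, ha, map_mul, map_mul, r0_X, MvPolynomial.aeval_X, hbl]
      exact congrArg _ (ev_X P i).symm
  have hπs : Function.Surjective π := by
    have h : LinearMap.range π.toLinearMap = ⊤ := by
      refine Groth.Agent.TFun.eq_top_of_sup_maximalIdeal_smul (top_le_iff.1 fun x _ => ?_)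
      obtain ⟨r, hr⟩ := P.toExtension.algebraMap_surjective (q x)
      obtain ⟨r', rfl⟩ := r0_surjective P (A := A) r
      rw [← add_sub_cancel (π r') x]
      refine Submodule.add_mem_sup ⟨_, rfl⟩ ?_
      rw [Ideal.smul_top_eq_map]
      change x - π r' ∈ (maximalIdeal A).map f
      rw [← hk, RingHom.mem_ker, map_sub, hqπ]
      exact sub_eq_zero.2 hr.symm
    exact LinearMap.range_eq_top.1 h
  obtain ⟨σB, hσB⟩ := Module.projective_lifting_property π.toLinearMap LinearMap.id hπs
  let I : Submodule A (MvPolynomial ι A) := LinearMap.ker π.toLinearMap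
  let ε : MvPolynomial ι A →ₗ[A] I :=
    (LinearMap.id - σB ∘ₗ π.toLinearMap).codRestrict I fun x => by
      have := LinearMap.congr_fun hσB (π x)
      rw [LinearMap.mem_ker, LinearMap.sub_apply, map_sub]
      exact sub_eq_zero.2 this.symm
  have hε : ∀ x : I, ε x = x := fun x => Subtype.ext (by
    change (x : MvPolynomial ι A) - σB (π x) = x
    rw [show π (x : MvPolynomial ι A) = 0 from x.2, _root_.map_zero, sub_zero])
  haveI : Module.Projective A I :=
    Module.Projective.of_split I.subtype ε (LinearMap.ext hε)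
  have hmI : ∀ x : MvPolynomial ι A, π x = 0 → r0 P A x = 0 → x ∈ maximalIdeal A • I := by
    intro x hx h0
    have h1 : x ∈ maximalIdeal A • (⊤ : Submodule A (MvPolynomial ι A)) := by
      rw [Ideal.smul_top_eq_map]
      exact mem_map_of_r0_eq_zero P h0
    have h2 := Submodule.mem_map_of_mem (f := I.subtype ∘ₗ ε) h1
    rw [Submodule.map_smul''] at h2
    have h3 : (I.subtype ∘ₗ ε) x = x := congrArg Subtype.val (hε ⟨x, hx⟩)
    rw [h3] at h2
    exact Submodule.smul_mono le_rfl (by rintro _ ⟨y, -, rfl⟩; exact (ε y).2) h2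
  have hker0 : ∀ f0 : P.toExtension.Ring, ev f0 = 0 → ∃ x, π x = 0 ∧ r0 P A x = f0 := by
    intro f0 hf0
    obtain ⟨x, rfl⟩ := r0_surjective P (A := A) f0
    have hx : π x ∈ (maximalIdeal A).map f := by rw [← hk, RingHom.mem_ker, hqπ, hf0]
    rw [show f = π.toRingHom.comp (algebraMap A (MvPolynomial ι A)) from
      (RingHom.ext fun c => (π.commutes c).symm), ← Ideal.map_map] at hx
    obtain ⟨y, hy, hy'⟩ := (Ideal.mem_map_iff_of_surjective π.toRingHom hπs).1 hx
    refine ⟨x - y, by rw [map_sub, sub_eq_zero]; exact hy'.symm, ?_⟩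
    have hy0 : r0 P A y = 0 := by
      have hle : (maximalIdeal A).map (algebraMap A (MvPolynomial ι A)) ≤ RingHom.ker (r0 P A) :=
        Ideal.map_le_iff_le_comap.2 fun c hc => by
          change r0 P A (C c) = 0
          rw [r0_C, (Art.mem_maximalIdeal_iff A c).1 hc, _root_.map_zero]
      exact hle hy
    rw [map_sub, hy0, sub_zero]
  choose g hg hg0 using fun s => hker0 (CotT.rel P s) (CotT.algebraMap_rel P s)
  let jA : (σ →₀ MvPolynomial ι A) →ₗ[MvPolynomial ι A] MvPolynomial ι A :=
    Finsupp.linearCombination _ g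
  have hj0 : ∀ u, r0 P A (jA u) = CotT.jmap P (u.mapRange (r0 P A) (_root_.map_zero _)) := fun u =>
    linearCombination_mapRange (r0 P A) hg0 u
  have hjI : ∀ u, π (jA u) = 0 := by
    intro u
    have hle : LinearMap.range jA ≤ RingHom.ker π.toRingHom := by
      rw [Finsupp.range_linearCombination]
      exact Submodule.span_le.2 (by rintro _ ⟨s, rfl⟩; exact hg s)
    exact hle ⟨u, rfl⟩
  have hspan : ∀ x, π x = 0 → x ∈ LinearMap.range jA := by
    have hle : I ≤ (LinearMap.range jA).restrictScalars A := le_of_le_sup_smul fun x hx => by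
      have h0 : r0 P A x ∈ LinearMap.range (CotT.jmap P) := by
        rw [CotT.range_jmap]
        change ev (r0 P A x) = 0
        rw [← hqπ, show π x = 0 from hx, _root_.map_zero]
      obtain ⟨a, ha⟩ := h0
      obtain ⟨u, rfl⟩ := Finsupp.mapRange_surjective _ (_root_.map_zero _) (r0_surjective P (A := A)) a
      rw [← add_sub_cancel (jA u) x]
      refine Submodule.add_mem_sup ⟨u, rfl⟩ (hmI _ ?_ ?_)
      · rw [map_sub, hjI, sub_zero]; exact hx
      · rw [map_sub, hj0, ha, sub_self]
    exact fun x hx => hle hx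
  let jI : (σ →₀ MvPolynomial ι A) →ₗ[A] I :=
    (jA.restrictScalars A).codRestrict I fun u => hjI u
  obtain ⟨τ, hτ⟩ := Module.projective_lifting_property jI LinearMap.id (fun x => by
    obtain ⟨u, hu⟩ := hspan x.1 x.2
    exact ⟨u, Subtype.ext hu⟩)
  let εF : (σ →₀ MvPolynomial ι A) →ₗ[A] (σ →₀ MvPolynomial ι A) := LinearMap.id - τ ∘ₗ jI
  have hεF0 : ∀ u, jA (εF u) = 0 := fun u => by
    have := congrArg Subtype.val (LinearMap.congr_fun hτ (jI u))
    change jA (u - τ (jI u)) = 0
    rw [map_sub, sub_eq_zero]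
    exact this.symm
  have hεF : ∀ u, jA u = 0 → εF u = u := fun u hu => by
    change u - τ (jI u) = u
    rw [show jI u = 0 from Subtype.ext hu, _root_.map_zero, sub_zero]
  have hmF : ∀ u : σ →₀ MvPolynomial ι A, u.mapRange (r0 P A) (_root_.map_zero _) = 0 →
      u ∈ maximalIdeal A • (⊤ : Submodule A (σ →₀ MvPolynomial ι A)) := by
    intro u hu
    rw [← Finsupp.sum_single u]
    refine Submodule.sum_mem _ fun s _ => ?_
    have h1 : u s ∈ maximalIdeal A • (⊤ : Submodule A (MvPolynomial ι A)) := by
      rw [Ideal.smul_top_eq_map]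
      exact mem_map_of_r0_eq_zero P (by have := DFunLike.congr_fun hu s; simpa using this)
    exact Submodule.smul_top_le_comap_smul_top _ (Finsupp.lsingle s) h1
  have hmr : ∀ y ∈ maximalIdeal A • (⊤ : Submodule A (σ →₀ MvPolynomial ι A)),
      y.mapRange (r0 P A) (_root_.map_zero _) = 0 := by
    intro y hy
    induction hy using Submodule.smul_induction_on' with
    | smul c hc z _ =>
      ext s
      rw [Finsupp.mapRange_apply, Finsupp.smul_apply, MvPolynomial.smul_eq_C_mul, map_mul, r0_C,
        (Art.mem_maximalIdeal_iff A c).1 hc, _root_.map_zero, zero_mul]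
      rfl
    | add a _ b _ ha hb => rw [Finsupp.mapRange_add (map_add _), ha, hb, add_zero]
  have hexlift : ∀ q₀ : CotT.relKer P, ∃ u : σ →₀ MvPolynomial ι A,
      jA u = 0 ∧ u.mapRange (r0 P A) (_root_.map_zero _) = (q₀ : CotT.relMod P) := by
    intro q₀
    obtain ⟨u₀, hu₀⟩ := Finsupp.mapRange_surjective _ (_root_.map_zero _) (r0_surjective P (A := A))
      (q₀ : CotT.relMod P)
    have h0 : r0 P A (jA u₀) = 0 := by rw [hj0, hu₀]; exact q₀.2
    have h1 := hmI _ (hjI u₀) h0
    have hIr : I ≤ Submodule.map (jA.restrictScalars A) ⊤ := fun x hx => by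
      obtain ⟨u, hu⟩ := hspan x hx
      exact ⟨u, trivial, hu⟩
    have h2 := Submodule.smul_mono le_rfl (N := I) hIr h1
    rw [← Submodule.map_smul''] at h2
    obtain ⟨y, hy, hy'⟩ := h2
    refine ⟨u₀ - y, by rw [map_sub, sub_eq_zero]; exact hy'.symm, ?_⟩
    rw [Finsupp.mapRange_sub (map_sub _), hu₀, hmr y hy, sub_zero]
  -- lifts over `A'`
  have hrps : Function.Surjective (rp (ι := ι) p) := MvPolynomial.map_surjective _ hp.1
  choose G hG using fun s => hrps (g s)
  let j' : (σ →₀ MvPolynomial ι A') →ₗ[MvPolynomial ι A'] MvPolynomial ι A' :=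
    Finsupp.linearCombination _ G
  let mp : (σ →₀ MvPolynomial ι A') → (σ →₀ MvPolynomial ι A) := fun u =>
    u.mapRange (rp p) (_root_.map_zero _)
  let m0 : (σ →₀ MvPolynomial ι A') → CotT.relMod P := fun u =>
    u.mapRange (r0 P A') (_root_.map_zero _)
  have hm0 : ∀ u, (mp u).mapRange (r0 P A) (_root_.map_zero _) = m0 u := fun u => by
    ext s
    simp [mp, m0, r0_rp]
  have hjp : ∀ u, rp p (j' u) = jA (mp u) := fun u => linearCombination_mapRange (rp p) hG u
  have hj'0 : ∀ u, r0 P A' (j' u) = CotT.jmap P (m0 u) := fun u => by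
    rw [← r0_rp P p, hjp, hj0, hm0]
  let Val : (σ →₀ MvPolynomial ι A') → B₀ → Prop := fun u b =>
    ∃ r, j' u = C t * r ∧ ev (r0 P A' r) = b
  have hValex : ∀ u, jA (mp u) = 0 → ∃ b, Val u b := fun u hu => by
    obtain ⟨r, hr⟩ := exists_mul_of_rp_eq_zero ht (x := j' u) (by rw [hjp, hu])
    exact ⟨_, r, hr, rfl⟩
  have hValu : ∀ {u b b'}, Val u b → Val u b' → b = b' := by
    rintro u b b' ⟨r, hr, rfl⟩ ⟨r', hr', rfl⟩
    rw [(mul_t_eq_iff (P := P) htm r r').1 (hr.symm.trans hr')]
  have hVadd : ∀ {u v b c}, Val u b → Val v c → Val (u + v) (b + c) := by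
    rintro u v b c ⟨r, hr, rfl⟩ ⟨r', hr', rfl⟩
    exact ⟨r + r', by rw [map_add, hr, hr', mul_add], by rw [map_add, map_add]⟩
  have hVsmul : ∀ {u b} (r : MvPolynomial ι A'), Val u b → Val (r • u) (ev (r0 P A' r) * b) := by
    rintro u b r ⟨r', hr', rfl⟩
    exact ⟨r * r', by rw [map_smul, hr', smul_eq_mul, mul_left_comm], by rw [map_mul, map_mul]⟩
  have hev_j : ∀ u, ev (r0 P A' (j' u)) = 0 := fun u => by
    rw [hj'0]
    exact CotT.algebraMap_jmap P _
  have hVzero : ∀ v, jA (mp v) = 0 → m0 v = 0 → Val v 0 := by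
    intro v hv hv0
    have hw : mp v ∈ maximalIdeal A • (⊤ : Submodule A (σ →₀ MvPolynomial ι A)) :=
      hmF _ ((hm0 v).trans hv0)
    have key : ∀ w ∈ maximalIdeal A • (⊤ : Submodule A (σ →₀ MvPolynomial ι A)),
        ∃ v', mp v' = εF w ∧ Val v' 0 := by
      intro w hw
      induction hw using Submodule.smul_induction_on' with
      | smul c hc y _ =>
        obtain ⟨c', rfl⟩ := hp.1 c
        obtain ⟨v'', hv''⟩ := Finsupp.mapRange_surjective _ (_root_.map_zero _) hrps (εF y)
        obtain ⟨b, hb⟩ := hValex v'' (by rw [show mp v'' = εF y from hv'']; exact hεF0 y)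
        refine ⟨(C c' : MvPolynomial ι A') • v'', ?_, ?_⟩
        · rw [map_smul, ← hv'']
          ext s
          simp only [mp, Finsupp.mapRange_apply, Finsupp.smul_apply, smul_eq_mul, map_mul]
          rw [show rp (ι := ι) p (C c') = C (p c') from MvPolynomial.map_C p.toAlgHom.toRingHom c',
            MvPolynomial.smul_eq_C_mul]
        · have hc0 : A'.res c' = 0 :=
            (Art.res_app p c').symm.trans ((Art.mem_maximalIdeal_iff A _).1 hc)
          have h := hVsmul (C c') hb
          rwa [r0_C, hc0, _root_.map_zero, _root_.map_zero, zero_mul] at h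
      | add a _ b _ ha hb =>
        obtain ⟨va, hva, hva'⟩ := ha
        obtain ⟨vb, hvb, hvb'⟩ := hb
        refine ⟨va + vb, ?_, by simpa using hVadd hva' hvb'⟩
        rw [map_add, ← hva, ← hvb]
        exact Finsupp.mapRange_add (map_add _) _ _
    obtain ⟨v', hv', r, hr, hr0⟩ := key _ hw
    rw [hεF _ hv] at hv'
    have hz : ∀ s, ∃ z, (v - v') s = C t * z := fun s =>
      exists_mul_of_rp_eq_zero ht (by
        rw [Finsupp.sub_apply, map_sub, sub_eq_zero]
        exact (DFunLike.congr_fun hv' s).symm)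
    choose z hz using hz
    let zz : σ →₀ MvPolynomial ι A' := Finsupp.onFinset (v - v').support
      (fun s => if s ∈ (v - v').support then z s else 0) (fun s hs => by
        by_contra hns
        simp [hns] at hs)
    have hzz : v - v' = (C t : MvPolynomial ι A') • zz := by
      ext1 s
      rw [Finsupp.smul_apply, smul_eq_mul, Finsupp.onFinset_apply]
      split_ifs with hs
      · exact hz s
      · rw [mul_zero]; exact Finsupp.notMem_support_iff.1 hs
    refine ⟨r + j' zz, ?_, by rw [map_add, map_add, hr0, hev_j, add_zero]⟩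
    rw [← add_sub_cancel v' v, map_add, hr, hzz, map_smul, smul_eq_mul, mul_add]
  have hob : ∀ q₀ : CotT.relKer P, ∃ b, ∀ u, jA (mp u) = 0 → m0 u = (q₀ : CotT.relMod P) → Val u b := by
    intro q₀
    obtain ⟨w, hw, hw0⟩ := hexlift q₀
    obtain ⟨u₁, rfl⟩ := Finsupp.mapRange_surjective _ (_root_.map_zero _) hrps w
    obtain ⟨b, hb⟩ := hValex u₁ hw
    refine ⟨b, fun u hu hu0 => ?_⟩
    have hd : Val (u + (-1 : MvPolynomial ι A') • u₁) 0 := by
      refine hVzero _ ?_ ?_
      · have : mp (u + (-1 : MvPolynomial ι A') • u₁) = mp u + (-1 : MvPolynomial ι A) • mp u₁ := by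
          ext s; simp [mp]
        rw [this, map_add, map_smul, hu, hw, smul_zero, add_zero]
      · have : m0 (u + (-1 : MvPolynomial ι A') • u₁) = m0 u + (-1 : P.toExtension.Ring) • m0 u₁ := by
          ext s; simp [m0]
        rw [this, hu0, ← hm0 u₁, show (mp u₁).mapRange (r0 P A) (_root_.map_zero _) = _ from hw0,
          neg_one_smul, add_neg_cancel]
    have h := hVadd hd hb
    rwa [zero_add, neg_one_smul, neg_add_cancel_right] at h
  choose ob hobv using hob
  have hrep : ∀ q₀ : CotT.relKer P, ∃ u, jA (mp u) = 0 ∧ m0 u = (q₀ : CotT.relMod P) := fun q₀ => by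
    obtain ⟨w, hw, hw0⟩ := hexlift q₀
    obtain ⟨u, rfl⟩ := Finsupp.mapRange_surjective _ (_root_.map_zero _) hrps w
    exact ⟨u, hw, (hm0 u).symm.trans hw0⟩
  let obL : CotT.relKer P →ₗ[P.toExtension.Ring] B₀ :=
    { toFun := ob
      map_add' := fun a b => by
        obtain ⟨u, hu, hu'⟩ := hrep a
        obtain ⟨v, hv, hv'⟩ := hrep b
        refine hValu (hobv (a + b) (u + v) ?_ ?_) (hVadd (hobv a u hu hu') (hobv b v hv hv'))
        · rw [show mp (u + v) = mp u + mp v from Finsupp.mapRange_add (map_add _) _ _, map_add, hu, hv,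
            add_zero]
        · rw [show m0 (u + v) = m0 u + m0 v from Finsupp.mapRange_add (map_add _) _ _, hu', hv']
          rfl
      map_smul' := fun r a => by
        obtain ⟨u, hu, hu'⟩ := hrep a
        obtain ⟨r', rfl⟩ := r0_surjective P (A := A') r
        rw [RingHom.id_apply, Algebra.smul_def]
        refine hValu (hobv (r0 P A' r' • a) (r' • u) ?_ ?_) (hVsmul r' (hobv a u hu hu'))
        · rw [show mp (r' • u) = rp p r' • mp u from mapRange_smul_ringHom _ _ _, map_smul, hu, smul_zero]
        · rw [show m0 (r' • u) = r0 P A' r' • m0 u from mapRange_smul_ringHom _ _ _, hu']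
          rfl }
  have hobL : ∀ q₀, obL q₀ = ob q₀ := fun _ => rfl
  clear_value obL
  have htriv : ∀ (a b : CotT.relMod P) (h : CotT.jmap P a • b - CotT.jmap P b • a ∈ CotT.relKer P),
      obL ⟨_, h⟩ = 0 := by
    intro a b h
    obtain ⟨a', rfl⟩ := Finsupp.mapRange_surjective _ (_root_.map_zero _) (r0_surjective P (A := A')) a
    obtain ⟨b', rfl⟩ := Finsupp.mapRange_surjective _ (_root_.map_zero _) (r0_surjective P (A := A')) b
    have h0 : j' (j' a' • b' - j' b' • a') = 0 := by
      rw [map_sub, map_smul, map_smul, smul_eq_mul, smul_eq_mul, mul_comm, sub_self]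
    rw [hobL]
    refine hValu (hobv _ (j' a' • b' - j' b' • a') ?_ ?_) ⟨0, by rw [h0, mul_zero], by
      rw [_root_.map_zero, _root_.map_zero]⟩
    · rw [← hjp, h0, _root_.map_zero]
    · change m0 (j' a' • b' - j' b' • a') = CotT.jmap P (m0 a') • m0 b' - CotT.jmap P (m0 b') • m0 a'
      rw [← hj'0, ← hj'0]
      ext s
      simp [m0]
  obtain ⟨ψ, hψ₀⟩ := exists_extend P hT2 obL htriv
  have hψ' : ∀ q₀ : CotT.relKer P, ψ ((1 : B₀) ⊗ₜ (q₀ : CotT.relMod P)) = ob q₀ :=
    fun q₀ => (hψ₀ q₀).trans (hobL q₀)
  -- correct the lifts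
  choose Cs hCs using fun s => (P.toExtension.algebraMap_surjective.comp (r0_surjective P (A := A')))
    (ψ ((1 : B₀) ⊗ₜ[P.toExtension.Ring] Finsupp.single s (1 : P.toExtension.Ring)))
  let G' : σ → MvPolynomial ι A' := fun s => G s - C t * Cs s
  let j'' : (σ →₀ MvPolynomial ι A') →ₗ[MvPolynomial ι A'] MvPolynomial ι A' :=
    Finsupp.linearCombination _ G'
  let cl : (σ →₀ MvPolynomial ι A') →ₗ[MvPolynomial ι A'] MvPolynomial ι A' :=
    Finsupp.linearCombination _ Cs
  have hj'' : ∀ u, j'' u = j' u - C t * cl u := fun u => by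
    induction u using Finsupp.induction_linear with
    | zero => simp
    | add a b ha hb => rw [map_add, ha, hb, map_add, map_add, mul_add]; abel
    | single s r => simp [j'', j', cl, G']; ring
  have hcl : ∀ u, ev (r0 P A' (cl u)) = ψ ((1 : B₀) ⊗ₜ[P.toExtension.Ring] m0 u) := fun u => by
    induction u using Finsupp.induction_linear with
    | zero => simp [m0]
    | add a b ha hb =>
      rw [map_add, map_add, map_add, ha, hb, show m0 (a + b) = m0 a + m0 b from
        Finsupp.mapRange_add (map_add _) _ _, tmul_add, map_add]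
    | single s r =>
      rw [Finsupp.linearCombination_single, smul_eq_mul, map_mul, map_mul,
        show m0 (Finsupp.single s r) = r0 P A' r • Finsupp.single s 1 by
          rw [Finsupp.smul_single, smul_eq_mul, mul_one]; exact Finsupp.mapRange_single,
        tmul_smul, ← algebraMap_smul B₀ (r0 P A' r), map_smul, smul_eq_mul]
      exact congrArg _ (hCs s)
  have hG'p : ∀ s, rp p (G' s) = g s := fun s => by
    simp only [G', map_sub, map_mul, rp_Ct ht, zero_mul, sub_zero, hG]
  let K : Ideal (MvPolynomial ι A') := Ideal.span (Set.range G')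
  have hK : K = LinearMap.range j'' := (Finsupp.range_linearCombination _).symm
  have hK0 : ∀ x ∈ K, ev (r0 P A' x) = 0 := by
    intro x hx
    rw [hK] at hx
    obtain ⟨u, rfl⟩ := hx
    rw [← r0_rp P p, show rp p (j'' u) = jA (mp u) from linearCombination_mapRange (rp p) hG'p u, hj0]
    exact CotT.algebraMap_jmap P _
  have honto : ∀ f0 : P.toExtension.Ring, ev f0 = 0 → ∃ x ∈ K, r0 P A' x = f0 := by
    intro f0 hf0
    have hf0' : f0 ∈ LinearMap.range (CotT.jmap P) := by rw [CotT.range_jmap]; exact hf0
    obtain ⟨a, rfl⟩ := hf0'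
    obtain ⟨u, rfl⟩ := Finsupp.mapRange_surjective _ (_root_.map_zero _) (r0_surjective P (A := A')) a
    refine ⟨j'' u, hK ▸ ⟨u, rfl⟩, ?_⟩
    rw [← r0_rp P p, show rp p (j'' u) = jA (mp u) from linearCombination_mapRange (rp p) hG'p u, hj0, hm0]
  have hinter : ∀ x ∈ K, rp p x = 0 → ∃ y ∈ K, x = C t * y := by
    intro x hx hx0
    rw [hK] at hx
    obtain ⟨u, rfl⟩ := hx
    have hu : jA (mp u) = 0 := (linearCombination_mapRange (rp p) hG'p u).symm.trans hx0
    have hq₀ : m0 u ∈ CotT.relKer P := by
      change CotT.jmap P (m0 u) = 0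
      rw [← hm0, ← hj0, hu, _root_.map_zero]
    obtain ⟨r, hr, hr'⟩ := hobv ⟨_, hq₀⟩ u hu rfl
    obtain ⟨y, hy, hy'⟩ := honto (r0 P A' (r - cl u)) (by
      rw [map_sub, map_sub, hr', hcl, sub_eq_zero]
      exact (hψ' ⟨_, hq₀⟩).symm)
    refine ⟨y, hy, ?_⟩
    rw [hj'', hr, ← mul_sub, (mul_t_eq_iff (P := P) htm _ _).2 hy']
  let B' := MvPolynomial ι A' ⧸ K
  let π'' : MvPolynomial ι A' →+* B := π.toRingHom.comp (rp p)
  let π' : B' →+* B := Ideal.Quotient.lift K π'' fun x hx => by
    rw [hK] at hx
    obtain ⟨u, rfl⟩ := hx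
    change π (rp p (j'' u)) = 0
    rw [show rp p (j'' u) = jA (mp u) from linearCombination_mapRange (rp p) hG'p u, hjI]
  have hπ''s : Function.Surjective π'' := hπs.comp hrps
  have hπ's : Function.Surjective π' := fun b => by
    obtain ⟨x, rfl⟩ := hπ''s b
    exact ⟨Ideal.Quotient.mk K x, rfl⟩
  have hcomp : π'.comp (algebraMap A' B') = f.comp p.toAlgHom.toRingHom := RingHom.ext fun c => by
    change π (rp p (C c)) = f (p c)
    rw [show rp (ι := ι) p (C c) = C (p c) from MvPolynomial.map_C p.toAlgHom.toRingHom c,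
      MvPolynomial.aeval_C]
    rfl
  have hkπ : RingHom.ker π' = (RingHom.ker p.toAlgHom).map (algebraMap A' B') := by
    refine le_antisymm (fun z hz => ?_) (Ideal.map_le_iff_le_comap.2 fun c hc => ?_)
    · obtain ⟨x, rfl⟩ := Ideal.Quotient.mk_surjective z
      obtain ⟨u, hu⟩ := hspan (rp p x) hz
      obtain ⟨u', rfl⟩ := Finsupp.mapRange_surjective _ (_root_.map_zero _) hrps u
      obtain ⟨r, hr⟩ := exists_mul_of_rp_eq_zero ht (x := x - j'' u') (by
        rw [map_sub, show rp p (j'' u') = jA (mp u') from linearCombination_mapRange (rp p) hG'p u',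
          sub_eq_zero]
        exact hu.symm)
      have : Ideal.Quotient.mk K x = algebraMap A' B' t * Ideal.Quotient.mk K r := by
        change _ = Ideal.Quotient.mk K (C t) * _
        rw [← map_mul, Ideal.Quotient.eq, ← hr, sub_sub_cancel]
        exact hK ▸ ⟨u', rfl⟩
      rw [this]
      exact Ideal.mul_mem_right _ _ (Ideal.mem_map_of_mem _ (ht ▸ Ideal.mem_span_singleton_self t))
    · rw [Ideal.mem_comap, RingHom.mem_ker, ← RingHom.comp_apply, hcomp, RingHom.comp_apply,
        show p.toAlgHom.toRingHom c = 0 from hc, _root_.map_zero]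
  have hkq : RingHom.ker (q.comp π') = (maximalIdeal A').map (algebraMap A' B') := by
    refine le_antisymm (fun z hz => ?_) (Ideal.map_le_iff_le_comap.2 fun c hc => ?_)
    · obtain ⟨x, rfl⟩ := Ideal.Quotient.mk_surjective z
      have h0 : ev (r0 P A' x) = 0 := by
        rw [← r0_rp P p, ← hqπ]; exact hz
      obtain ⟨y, hy, hy'⟩ := honto _ h0
      have hxy : x - y ∈ (maximalIdeal A').map (C : A' →+* MvPolynomial ι A') :=
        mem_map_of_r0_eq_zero P (by rw [map_sub, hy', sub_self])
      have h2 := Ideal.mem_map_of_mem (Ideal.Quotient.mk K) hxy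
      rw [Ideal.map_map, map_sub, show Ideal.Quotient.mk K y = 0 from
        Ideal.Quotient.eq_zero_iff_mem.2 hy, sub_zero] at h2
      exact h2
    · rw [Ideal.mem_comap, RingHom.mem_ker, RingHom.comp_apply, ← RingHom.comp_apply π', hcomp,
        RingHom.comp_apply]
      refine (hqC _).trans ?_
      rw [show A.res (p.toAlgHom.toRingHom c) = 0 from
        (Art.res_app p c).trans ((Art.mem_maximalIdeal_iff A' c).1 hc), _root_.map_zero]
  -- flatness
  let bB := Module.Free.chooseBasis A B
  choose s hs using fun i => hπ''s (bB i)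
  have hfree : Module.Free A' B' := by
    have hsπ : ∀ i, π' (Ideal.Quotient.mk K (s i)) = bB i := hs
    have hlc : ∀ c, π' (Finsupp.linearCombination A' (fun i => Ideal.Quotient.mk K (s i)) c) =
        Finsupp.linearCombination A bB (c.mapRange p.toAlgHom (_root_.map_zero _)) := by
      intro c
      induction c using Finsupp.induction_linear with
      | zero => simp
      | add a b ha hb => rw [map_add, map_add, ha, hb, Finsupp.mapRange_add (map_add _), map_add]
      | single i a =>
        rw [Finsupp.linearCombination_single, Finsupp.mapRange_single, Finsupp.linearCombination_single,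
          show a • Ideal.Quotient.mk K (s i) = algebraMap A' B' a * Ideal.Quotient.mk K (s i) from
            Algebra.smul_def (A := B') a _, map_mul, hsπ, Algebra.smul_def]
        exact congrArg (· * _) (RingHom.congr_fun hcomp a)
    refine Module.Free.of_basis (Module.Basis.mk (v := fun i => Ideal.Quotient.mk K (s i)) ?_ ?_)
    · rw [linearIndependent_iff]
      intro c hc
      have h1 : c.mapRange p.toAlgHom (_root_.map_zero _) = 0 :=
        linearIndependent_iff.1 bB.linearIndependent _ (by rw [← hlc, hc, _root_.map_zero])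
      have h2 : ∀ i, ∃ a, c i = a * t := fun i => by
        have : c i ∈ RingHom.ker p.toAlgHom := by
          have h := DFunLike.congr_fun h1 i
          rw [Finsupp.mapRange_apply] at h
          exact h
        rw [ht] at this
        obtain ⟨a, ha⟩ := Ideal.mem_span_singleton'.1 this
        exact ⟨a, ha.symm⟩
      choose a ha using h2
      let a' : Module.Free.ChooseBasisIndex A B →₀ A' :=
        Finsupp.onFinset c.support (fun i => if i ∈ c.support then a i else 0)
          (fun i hi => by by_contra hn; simp [hn] at hi)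
      have hca : c = t • a' := by
        ext i
        rw [Finsupp.smul_apply, smul_eq_mul, Finsupp.onFinset_apply]
        split_ifs with hi
        · rw [ha i, mul_comm]
        · rw [mul_zero]; exact Finsupp.notMem_support_iff.1 hi
      let x := Finsupp.linearCombination A' s a'
      have hx : Ideal.Quotient.mk K (C t * x) = 0 := by
        rw [← hc, hca, map_smul, map_mul,
          show Finsupp.linearCombination A' (fun i => Ideal.Quotient.mk K (s i)) a' =
            Ideal.Quotient.mk K x from
            ((Finsupp.apply_linearCombination A' (Ideal.Quotient.mkₐ A' K).toLinearMap s a')).symm,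
          show t • Ideal.Quotient.mk K x = algebraMap A' B' t * Ideal.Quotient.mk K x from
            Algebra.smul_def (A := B') t _]
        rfl
      obtain ⟨y, hy, hxy⟩ := hinter _ (Ideal.Quotient.eq_zero_iff_mem.1 hx)
        (by rw [map_mul, rp_Ct ht, zero_mul])
      have h0 : q (π' (Ideal.Quotient.mk K x)) = 0 := by
        change q (π (rp p x)) = 0
        rw [hqπ, r0_rp, (mul_t_eq_iff (P := P) htm x y).1 hxy, hK0 y hy]
      have hmem : π' (Ideal.Quotient.mk K x) ∈ (maximalIdeal A).map f := hk ▸ h0
      have hcoord : ∀ z ∈ (maximalIdeal A).map f, ∀ i, bB.repr z i ∈ maximalIdeal A := by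
        intro z hz
        have hz' : z ∈ maximalIdeal A • (⊤ : Submodule A B) := by
          rw [Ideal.smul_top_eq_map]; exact hz
        induction hz' using Submodule.smul_induction_on' with
        | smul c hc z _ =>
          intro i
          rw [map_smul, Finsupp.smul_apply, smul_eq_mul]
          exact Ideal.mul_mem_right _ _ hc
        | add a ha b hb iha ihb =>
          intro i
          rw [map_add, Finsupp.add_apply]
          rw [Ideal.smul_top_eq_map] at ha hb
          exact add_mem (iha ha i) (ihb hb i)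
      rw [show Ideal.Quotient.mk K x =
          Finsupp.linearCombination A' (fun i => Ideal.Quotient.mk K (s i)) a' from
          Finsupp.apply_linearCombination A' (Ideal.Quotient.mkₐ A' K).toLinearMap s a', hlc] at hmem
      rw [hca]
      ext i
      have h3 := hcoord _ hmem i
      rw [bB.repr_linearCombination, Finsupp.mapRange_apply, Art.mem_maximalIdeal_iff] at h3
      rw [Finsupp.smul_apply, Finsupp.zero_apply, smul_eq_mul, mul_comm, ← zero_mul t, htm]
      rw [_root_.map_zero, ← Art.res_app p]
      exact h3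
    · refine le_of_le_sup_smul fun z _ => ?_
      obtain ⟨c, hc⟩ := Finsupp.mapRange_surjective _ (_root_.map_zero p.toAlgHom) hp.1 (bB.repr (π' z))
      rw [← add_sub_cancel (Finsupp.linearCombination A' (fun i => Ideal.Quotient.mk K (s i)) c) z]
      refine Submodule.add_mem_sup (Finsupp.mem_span_range_iff_exists_finsupp.2
        ⟨c, (Finsupp.linearCombination_apply A' c).symm⟩) ?_
      rw [Ideal.smul_top_eq_map]
      refine Ideal.map_mono (Groth.Agent.ArtFunLib.ker_le_maximalIdeal p) ?_
      rw [← hkπ, RingHom.mem_ker, map_sub, hlc, hc, bB.linearCombination_repr, sub_self]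
  exact ⟨B', inferInstance, algebraMap A' B', π', RingHom.flat_algebraMap_iff.mpr inferInstance,
    hπ's, hcomp, hkπ, hkq⟩

end Main

end Groth.Agent.RelLift
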