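import Groth.Agent.RelLift.Obstruction
import Groth.Agent.DefAff.Scheme

/-!
# Surjectivity of the deformation functor on small extensions
-/

set_option autoImplicit false
universe u w s₁

open CategoryTheory CategoryTheory.Limits AlgebraicGeometry ArtFun IsLocalRing

namespace Groth.Agent.RelLift

variable {Λ k : Type u} [CommRing Λ] [Field k] [Algebra Λ k]
variable {B₀ : Type u} [CommRing B₀] [Algebra k B₀]

/-- A ring-level flat lift gives a lift of the deformation. -/
theorem exists_lift_of_ring {A' A : Art Λ k} (p : A' ⟶ A) (hp : Function.Surjective p.toAlgHom)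
    (ξ : DefSch (Spec (CommRingCat.of B₀)) (Spec.map (CommRingCat.ofHom (algebraMap k B₀))) A)
    (h : ∀ (B : Type u) [CommRing B] (f : A →+* B) (q : B →+* B₀), f.Flat → Function.Surjective q →
      RingHom.ker q = (maximalIdeal A).map f → q.comp f = (algebraMap k B₀).comp A.res.toRingHom →
      ∃ (B' : Type u) (_ : CommRing B') (f' : A' →+* B') (π' : B' →+* B),
        f'.Flat ∧ Function.Surjective π' ∧ π'.comp f' = f.comp p.toAlgHom.toRingHom ∧
        RingHom.ker π' = (RingHom.ker p.toAlgHom).map f' ∧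
        RingHom.ker (q.comp π') = (maximalIdeal A').map f') :
    ∃ ξ' : DefSch (Spec (CommRingCat.of B₀)) (Spec.map (CommRingCat.ofHom (algebraMap k B₀))) A',
      Nonempty ((ξ'.baseChange p).Iso ξ) := by
  obtain ⟨B, f, q, u₀, hu₁, hu₂, hflat, hqs, hqk, hqf⟩ :=
    DefAff.exists_aff (xr := algebraMap k B₀) rfl ξ
  obtain ⟨B', _, f', π', hf', hπs, hπc, hπk, hqk'⟩ := h B f q hflat hqs hqk hqf
  have hpo : IsPushout (CommRingCat.ofHom f') (CommRingCat.ofHom p.toAlgHom.toRingHom)
      (CommRingCat.ofHom π') (CommRingCat.ofHom f) :=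
    DefAff.isPushout_of_surj_ker hp hπs hπc hπk
  have hpb : IsPullback (u₀.inv ≫ Spec.map (CommRingCat.ofHom π')) ξ.f
      (Spec.map (CommRingCat.ofHom f')) (Art.specMap p) :=
    (isPullback_SpecMap_of_isPushout _ _ _ _ hpo).of_iso u₀ (Iso.refl _) (Iso.refl _) (Iso.refl _)
      (by simp) (by simp [hu₁]) (by simp) (by simp; rfl)
  have hpo' : IsPushout (CommRingCat.ofHom f') (CommRingCat.ofHom A'.res.toRingHom)
      (CommRingCat.ofHom (q.comp π')) (CommRingCat.ofHom (algebraMap k B₀)) :=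
    DefAff.isPushout_of_surj_ker A'.res_surjective (hqs.comp hπs)
      (by
        rw [RingHom.comp_assoc, hπc, ← RingHom.comp_assoc, hqf, RingHom.comp_assoc]
        exact congrArg (RingHom.comp _) (congrArg AlgHom.toRingHom p.res_comp))
      (hqk'.trans (by rw [DefAff.ker_res]))
  let ξ' : DefSch (Spec (CommRingCat.of B₀)) (Spec.map (CommRingCat.ofHom (algebraMap k B₀))) A' :=
    { total := Spec (CommRingCat.of B')
      f := Spec.map (CommRingCat.ofHom f')
      flat := Flat.SpecMap_iff.mpr hf'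
      i := Spec.map (CommRingCat.ofHom (q.comp π'))
      isPullback := isPullback_SpecMap_of_isPushout _ _ _ _ hpo' }
  refine ⟨ξ', ⟨⟨hpb.isoPullback.symm, hpb.isoPullback_inv_snd, ?_⟩⟩⟩
  rw [Iso.symm_hom, Iso.comp_inv_eq]
  apply pullback.hom_ext
  · rw [DefSch.baseChange_i_fst, Category.assoc, hpb.isoPullback_hom_fst, ← Category.assoc,
      ← hu₂, Category.assoc _ u₀.hom, Iso.hom_inv_id, Category.comp_id, ← Spec.map_comp]
    rfl
  · rw [Category.assoc, hpb.isoPullback_hom_snd]
    exact (DefSch.baseChange_i_f ξ' p).trans ξ.i_f.symm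

/-- `T² = 0` makes the deformation functor surjective along small extensions. -/
theorem surjective_map_of_T2 {ι : Type} {σ : Type s₁} (P : Algebra.Presentation k B₀ ι σ)
    (hT2 : Subsingleton (CotT.T2 P B₀)) {A' A : Art Λ k} (p : A' ⟶ A) (hp : Art.IsSmallExt p) :
    Function.Surjective ((defFunctor (Λ := Λ) (Spec (CommRingCat.of B₀))
      (Spec.map (CommRingCat.ofHom (algebraMap k B₀)))).map p) := by
  intro c
  induction c using Quotient.inductionOn with | h ξ => ?_
  obtain ⟨t, ht⟩ := ArtFunLib.exists_gen hp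
  obtain ⟨ξ', ⟨e⟩⟩ := exists_lift_of_ring p hp.1 ξ fun B _ f q hf hq hk hc =>
    exists_flat_lift ht hp hT2 (ArtFunLib.mul_gen_eq_iff hp ht) f q hf hq hk hc
  exact ⟨ξ'.cl, Quotient.sound ⟨e⟩⟩

/-- The same with the variables in the universe of `k`. -/
theorem surjective_map_of_T2' {ι : Type u} {σ : Type s₁} (P : Algebra.Presentation k B₀ ι σ)
    (hT2 : Subsingleton (CotT.T2 P B₀)) {A' A : Art Λ k} (p : A' ⟶ A) (hp : Art.IsSmallExt p) :
    Function.Surjective ((defFunctor (Λ := Λ) (Spec (CommRingCat.of B₀))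
      (Spec.map (CommRingCat.ofHom (algebraMap k B₀)))).map p) := by
  intro c
  induction c using Quotient.inductionOn with | h ξ => ?_
  obtain ⟨t, ht⟩ := ArtFunLib.exists_gen hp
  obtain ⟨ξ', ⟨e⟩⟩ := exists_lift_of_ring p hp.1 ξ fun B _ f q hf hq hk hc =>
    exists_flat_lift ht hp hT2 (ArtFunLib.mul_gen_eq_iff hp ht) f q hf hq hk hc
  exact ⟨ξ'.cl, Quotient.sound ⟨e⟩⟩

end Groth.Agent.RelLift
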