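import Groth.Agent.CotLib.Vanish
import Groth.Agent.KoszulLib.Cone
import Mathlib.RingTheory.Localization.Ideal
import Mathlib.RingTheory.Localization.LocalizationLocalization
import Mathlib.RingTheory.Noetherian.Basic

/-!
# `T²` vanishes for ideals locally generated by regular sequences; Koszul-regular is regular locally
-/

set_option autoImplicit false
set_option backward.isDefEq.respectTransparency false
universe u v w t m

open TensorProduct CotT

namespace Groth.Agent.RelLift

open Groth.Agent.CotLib

section Regular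
variable {S : Type*} [CommRing S]

theorem mem_of_relation (xs : List S) (h : RegStep xs) : ∀ k (hk : k ≤ xs.length) (a : Fin k → S),
    (∑ i : Fin k, a i * xs[(i : ℕ)]'(by omega)) = 0 → ∀ i, a i ∈ Ideal.ofList xs := by
  intro k
  induction k with
  | zero => intro _ _ _ i; exact i.elim0
  | succ k ih =>
    intro hk a ha
    rw [Fin.sum_univ_castSucc] at ha
    simp only [Fin.val_castSucc, Fin.val_last] at ha
    have hlast : a (Fin.last k) ∈ Ideal.ofList (xs.take k) := by
      refine h k (by omega) _ ?_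
      rw [mul_comm, eq_neg_of_add_eq_zero_right ha]
      refine neg_mem (Ideal.sum_mem _ fun i _ => Ideal.mul_mem_left _ _ (Ideal.subset_span ?_))
      exact List.mem_take_iff_getElem.2 ⟨i, by omega, rfl⟩
    have hspan : Ideal.ofList (xs.take k) = Ideal.span (Set.range fun i : Fin k => xs[(i : ℕ)]'(by omega)) := by
      unfold Ideal.ofList
      congr 1
      ext x
      rw [Set.mem_setOf_eq, List.mem_take_iff_getElem, Set.mem_range]
      exact ⟨fun ⟨i, hi, e⟩ => ⟨⟨i, by omega⟩, e⟩, fun ⟨i, e⟩ => ⟨i, by omega, e⟩⟩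
    rw [hspan, Ideal.mem_span_range_iff_exists_fun] at hlast
    obtain ⟨c, hc⟩ := hlast
    have hk' : k ≤ xs.length := by omega
    have h2 := ih hk' (fun i => a i.castSucc + c i * xs[k]'(by omega)) (by
      rw [← ha, ← hc, Finset.sum_mul, ← Finset.sum_add_distrib]
      exact Finset.sum_congr rfl fun i _ => by ring)
    intro i
    induction i using Fin.lastCases with
    | last =>
      rw [← hc]
      exact Ideal.sum_mem _ fun i _ =>
        Ideal.mul_mem_left _ _ (Ideal.subset_span (List.getElem_mem _))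
    | cast i =>
      have := sub_mem (h2 i) (Ideal.mul_mem_left (Ideal.ofList xs) (c i)
        (Ideal.subset_span (List.getElem_mem (show k < xs.length by omega))))
      rwa [add_sub_cancel_right] at this

end Regular

theorem exists_uniform {R : Type*} [CommRing R] {M : Type*} [AddCommGroup M] [Module R M]
    (P : Ideal R) [P.IsPrime] {N N' : Submodule R M} (hN : N.FG)
    (h : ∀ x ∈ N, ∃ t, t ∉ P ∧ t • x ∈ N') : ∃ t, t ∉ P ∧ ∀ x ∈ N, t • x ∈ N' := by
  classical
  obtain ⟨G, rfl⟩ := hN
  have h' : ∀ g : G, ∃ t, t ∉ P ∧ t • (g : M) ∈ N' := fun g => h _ (Submodule.subset_span g.2)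
  choose t ht ht' using h'
  refine ⟨∏ g, t g, ?_, fun x hx => ?_⟩
  · intro hmem
    obtain ⟨g, -, hg⟩ := Ideal.IsPrime.prod_mem_iff.1 hmem
    exact ht g hg
  · induction hx using Submodule.span_induction with
    | mem x hx =>
      rw [← Finset.prod_erase_mul _ _ (Finset.mem_univ (⟨x, hx⟩ : G)), mul_smul]
      exact N'.smul_mem _ (ht' ⟨x, hx⟩)
    | zero => rw [smul_zero]; exact zero_mem _
    | add a b _ _ ha hb => rw [smul_add]; exact add_mem ha hb
    | smul r a _ ha => rw [smul_comm]; exact N'.smul_mem _ ha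

section T2

variable {A : Type u} {B : Type v} {ι : Type w} {σ : Type t}
variable [CommRing A] [CommRing B] [Algebra A B] (P : Algebra.Presentation A B ι σ)

theorem exists_smul_mem_range (M : Type m) [AddCommGroup M] [Module B M]
    [IsNoetherianRing P.toExtension.Ring]
    (Q : Ideal P.toExtension.Ring) [Q.IsPrime]
    (rs : List (Localization.AtPrime Q)) (hrs : RegStep rs)
    (hI : P.toExtension.ker.map (algebraMap P.toExtension.Ring (Localization.AtPrime Q)) = Ideal.ofList rs)
    (hinj : Function.Injective (CotT.d2 P)) (ξ : CotT.L2 P →ₗ[B] M) :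
    ∃ t, t ∉ Q ∧ algebraMap P.toExtension.Ring B t • ξ ∈ LinearMap.range (CotT.d2Star P M) := by
  classical
  let L := Localization.AtPrime Q
  let I := P.toExtension.ker
  have hh : ∀ i : Fin rs.length, ∃ (h : I) (u : L), IsUnit u ∧ algebraMap P.toExtension.Ring L h = u * rs[(i : ℕ)] := by
    intro i
    have hmem : rs[(i : ℕ)] ∈ I.map (algebraMap P.toExtension.Ring L) :=
      hI ▸ Ideal.subset_span (List.getElem_mem i.2)
    obtain ⟨⟨h, s⟩, hs⟩ := (IsLocalization.mem_map_algebraMap_iff Q.primeCompl L).1 hmem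
    exact ⟨h, algebraMap P.toExtension.Ring L s, IsLocalization.map_units L s, by rw [mul_comm]; exact hs.symm⟩
  choose h u hu hhu using hh
  let H : Ideal P.toExtension.Ring := Ideal.span (Set.range fun i => (h i : P.toExtension.Ring))
  have hIH : I.map (algebraMap P.toExtension.Ring L) ≤ H.map (algebraMap P.toExtension.Ring L) := by
    rw [hI, Ideal.ofList, Ideal.span_le]
    intro x hx
    obtain ⟨i, hi, rfl⟩ := List.mem_iff_getElem.1 hx
    obtain ⟨v, hv⟩ := hu ⟨i, hi⟩
    rw [show rs[i] = ↑v⁻¹ * algebraMap P.toExtension.Ring L (h ⟨i, hi⟩) by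
      rw [hhu, ← hv, ← mul_assoc, Units.inv_mul, one_mul]]
    exact Ideal.mul_mem_left _ _ (Ideal.mem_map_of_mem _ (Ideal.subset_span ⟨_, rfl⟩))
  obtain ⟨t₁, ht₁, ht₁'⟩ := exists_uniform Q (N := I) (N' := H) (IsNoetherian.noetherian _) (fun x hx => by
    obtain ⟨s, hs, hs'⟩ :=
      (IsLocalization.algebraMap_mem_map_algebraMap_iff Q.primeCompl L H x).1
        (hIH (Ideal.mem_map_of_mem _ hx))
    exact ⟨s, hs, hs'⟩)
  let lc : (Fin rs.length → P.toExtension.Ring) →ₗ[P.toExtension.Ring] P.toExtension.Ring := Fintype.linearCombination P.toExtension.Ring fun i => (h i : P.toExtension.Ring)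
  obtain ⟨t₂, ht₂, ht₂'⟩ := exists_uniform Q (N := LinearMap.ker lc)
    (N' := Submodule.pi Set.univ fun _ => I) (IsNoetherian.noetherian _) (fun a ha => by
    have hrel : ∀ i, algebraMap P.toExtension.Ring L (a i) ∈ I.map (algebraMap P.toExtension.Ring L) := by
      intro i
      have h0 : (∑ i, (algebraMap P.toExtension.Ring L (a i) * u i) * rs[(i : ℕ)]) = 0 := by
        have := congrArg (algebraMap P.toExtension.Ring L) (LinearMap.mem_ker.1 ha)
        rw [map_zero] at this
        rw [← this, Fintype.linearCombination_apply, map_sum]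
        refine Finset.sum_congr rfl fun i _ => ?_
        rw [smul_eq_mul, map_mul, hhu]
        ring
      have h1 := mem_of_relation rs hrs rs.length le_rfl _ h0 i
      rw [← hI] at h1
      obtain ⟨v, hv⟩ := hu i
      have h2 := Ideal.mul_mem_right (↑v⁻¹ : L) _ h1
      rwa [← hv, mul_assoc, Units.mul_inv, mul_one] at h2
    have hs : ∀ i, ∃ s, s ∉ Q ∧ s * a i ∈ I := fun i => by
      obtain ⟨s, hs, hs'⟩ := (IsLocalization.algebraMap_mem_map_algebraMap_iff Q.primeCompl L I (a i)).1 (hrel i)
      exact ⟨s, hs, hs'⟩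
    choose s hs hs' using hs
    refine ⟨∏ i, s i, fun hmem => ?_, fun i _ => ?_⟩
    · obtain ⟨i, -, hi⟩ := Ideal.IsPrime.prod_mem_iff.1 hmem
      exact hs i hi
    · rw [Pi.smul_apply, smul_eq_mul, ← Finset.prod_erase_mul _ _ (Finset.mem_univ i), mul_assoc]
      exact Ideal.mul_mem_left _ _ (hs' i))
  have hcoef : ∀ x : I, ∃ a : Fin rs.length → P.toExtension.Ring, ∑ i, a i * (h i : P.toExtension.Ring) = t₁ * x := fun x =>
    Ideal.mem_span_range_iff_exists_fun.1 (ht₁' x x.2)
  choose a ha using hcoef
  have huniq : ∀ (x : I) (b : Fin rs.length → P.toExtension.Ring), ∑ i, b i * (h i : P.toExtension.Ring) = t₁ * x → ∀ i,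
      algebraMap P.toExtension.Ring B (t₂ * b i) = algebraMap P.toExtension.Ring B (t₂ * a x i) := by
    intro x b hb i
    have h3 : t₂ • (b - a x) ∈ Submodule.pi Set.univ fun _ => I := ht₂' _ (by
      rw [LinearMap.mem_ker, map_sub, Fintype.linearCombination_apply, Fintype.linearCombination_apply]
      simp only [smul_eq_mul]
      rw [hb, ha, sub_self])
    have h4 : algebraMap P.toExtension.Ring B (t₂ * (b i - a x i)) = 0 := h3 i (Set.mem_univ i)
    rwa [mul_sub, map_sub, sub_eq_zero] at h4
  let φ : Fin rs.length → (I →ₗ[P.toExtension.Ring] B) := fun i =>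
    { toFun := fun x => algebraMap P.toExtension.Ring B (t₂ * a x i)
      map_add' := fun x y => by
        rw [← map_add, ← mul_add]
        refine (huniq (x + y) (fun i => a x i + a y i) ?_ i).symm
        rw [Submodule.coe_add, mul_add, ← ha x, ← ha y, ← Finset.sum_add_distrib]
        exact Finset.sum_congr rfl fun i _ => add_mul _ _ _
      map_smul' := fun r x => by
        rw [RingHom.id_apply, Algebra.smul_def, ← map_mul, mul_left_comm]
        refine (huniq (r • x) (fun i => r * a x i) ?_ i).symm
        rw [Submodule.coe_smul, smul_eq_mul, mul_left_comm, ← ha x, Finset.mul_sum]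
        exact Finset.sum_congr rfl fun i _ => mul_assoc _ _ _ }
  have hw : ∀ i, ∃ w : CotT.relMod P, CotT.jker P w = h i := fun i => by
    have : (h i : P.toExtension.Ring) ∈ LinearMap.range (CotT.jmap P) := by
      rw [CotT.range_jmap]; exact (h i).2
    obtain ⟨w, hw⟩ := this
    exact ⟨w, Subtype.ext hw⟩
  choose w hw using hw
  let l : CotT.L1 P →ₗ[B] CotT.L1 P :=
    ∑ i, (LinearMap.liftBaseChange B ((φ i) ∘ₗ CotT.jker P)).smulRight ((1 : B) ⊗ₜ[P.toExtension.Ring] w i)
  let T : B := algebraMap P.toExtension.Ring B (t₁ * t₂)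
  have hl : ∀ x, CotT.toCot P (l x) = T • CotT.toCot P x := by
    intro x
    obtain ⟨f, rfl⟩ := exists_one_tmul P x
    simp only [l, LinearMap.sum_apply, LinearMap.smulRight_apply, LinearMap.liftBaseChange_tmul,
      one_smul, map_sum, map_smul, CotT.toCot_tmul, hw, LinearMap.comp_apply]
    rw [show T • Algebra.Extension.Cotangent.mk (CotT.jker P f) =
      Algebra.Extension.Cotangent.mk ((t₁ * t₂) • CotT.jker P f) by
        rw [map_smul, algebraMap_smul]]
    have hsum : (t₁ * t₂) • CotT.jker P f = ∑ i, (t₂ * a (CotT.jker P f) i) • h i := by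
      refine Subtype.ext ?_
      rw [Submodule.coe_smul, smul_eq_mul, AddSubmonoidClass.coe_finsetSum, mul_comm t₁ t₂, mul_assoc,
        ← ha, Finset.mul_sum]
      exact Finset.sum_congr rfl fun i _ => (mul_assoc _ _ _).symm
    rw [hsum, map_sum]
    refine Finset.sum_congr rfl fun i _ => ?_
    rw [map_smul, ← algebraMap_smul B (t₂ * a (CotT.jker P f) i)]
    rfl
  let π : CotT.L1 P →ₗ[B] LinearMap.range (CotT.d2 P) :=
    (T • LinearMap.id - l).codRestrict _ fun x => ker_toCot_le_range_d2 P (by
      rw [LinearMap.mem_ker, LinearMap.sub_apply, map_sub, LinearMap.smul_apply, LinearMap.id_apply,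
        map_smul, hl, sub_self])
  refine ⟨t₁ * t₂, Ideal.IsPrime.mul_notMem ‹_› ht₁ ht₂,
    ξ ∘ₗ (LinearEquiv.ofInjective _ hinj).symm.toLinearMap ∘ₗ π, LinearMap.ext fun z => ?_⟩
  rw [CotT.d2Star_apply]
  show ξ ((LinearEquiv.ofInjective _ hinj).symm (π (CotT.d2 P z))) = (T • ξ) z
  rw [LinearMap.smul_apply, ← map_smul]
  congr 1
  rw [LinearEquiv.symm_apply_eq]
  refine Subtype.ext ?_
  show (T • (LinearMap.id : CotT.L1 P →ₗ[B] CotT.L1 P) - l) (CotT.d2 P z) = _
  have hl0 : l (CotT.d2 P z) = 0 := by
    obtain ⟨q, rfl⟩ := exists_cls P z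
    rw [d2_cls]
    have hq0 : CotT.jker P (q : CotT.relMod P) = 0 := Subtype.ext q.2
    simp only [l, LinearMap.sum_apply, LinearMap.smulRight_apply, LinearMap.liftBaseChange_tmul,
      LinearMap.comp_apply]
    refine Finset.sum_eq_zero fun i _ => ?_
    rw [one_smul]
    exact (congrArg (· • ((1 : B) ⊗ₜ[P.toExtension.Ring] w i))
      ((congrArg (φ i) hq0).trans (map_zero _))).trans (zero_smul _ _)
  rw [LinearMap.sub_apply, LinearMap.smul_apply, LinearMap.id_apply, hl0, sub_zero,
    LinearEquiv.ofInjective_apply, map_smul]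

theorem subsingleton_T2_of_local [IsNoetherianRing P.toExtension.Ring]
    (H : ∀ Q : Ideal P.toExtension.Ring, Q.IsMaximal → P.toExtension.ker ≤ Q → ∀ [Q.IsPrime],
      ∃ rs : List (Localization.AtPrime Q), RegStep rs ∧
        P.toExtension.ker.map (algebraMap P.toExtension.Ring (Localization.AtPrime Q)) = Ideal.ofList rs)
    (M : Type m) [AddCommGroup M] [Module B M] : Subsingleton (CotT.T2 P M) := by
  have hinj := d2_injective P H
  refine subsingleton_of_forall_eq 0 fun a => ?_
  obtain ⟨ξ, rfl⟩ := Submodule.Quotient.mk_surjective _ a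
  rw [Submodule.Quotient.mk_eq_zero]
  let 𝔞 : Ideal B := (LinearMap.range (CotT.d2Star P M)).comap (LinearMap.toSpanSingleton B _ ξ)
  suffices 𝔞 = ⊤ by
    have h1 : (1 : B) ∈ 𝔞 := this ▸ Submodule.mem_top
    simpa [𝔞] using h1
  by_contra hne
  obtain ⟨m, hm, hle⟩ := Ideal.exists_le_maximal 𝔞 hne
  let g := algebraMap P.toExtension.Ring B
  haveI : (m.comap g).IsMaximal :=
    Ideal.comap_isMaximal_of_surjective g P.toExtension.algebraMap_surjective
  obtain ⟨rs, hrs, hI⟩ := H (m.comap g) ‹_› (Ideal.comap_mono bot_le)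
  obtain ⟨t, ht, ht'⟩ := exists_smul_mem_range P M (m.comap g) rs hrs hI hinj ξ
  exact ht (Ideal.mem_comap.2 (hle ht'))

end T2

section Koszul

open Groth.Agent.KoszulLib IsLocalRing

variable {R : Type u} [CommRing R] [IsLocalRing R] [IsNoetherianRing R]

theorem finite_X : ∀ (l : List R) (i : ℤ), Module.Finite R (X l i)
  | [], i => by
    by_cases h : i = 0
    · subst h; exact Module.Finite.equiv (nilEquiv (R := R)).symm
    · haveI := subsingleton_nil (R := R) h
      infer_instance
  | f :: l, i => by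
    haveI := finite_X l (i + 1)
    haveI := finite_X l i
    exact Module.Finite.equiv (pair f l i (i + 1) rfl)

theorem Ex.tail {f : R} {l : List R} (hf : f ∈ maximalIdeal R) (h : Ex (f :: l)) : Ex l := by
  intro i j k hij hjk hj
  haveI := finite_X l j
  let Z := LinearMap.ker (dL l j k)
  let Bd := LinearMap.range (dL l i j)
  have key : Z ≤ Bd := by
    refine Submodule.le_of_le_smul_of_le_jacobson_bot (I := maximalIdeal R) (IsNoetherian.noetherian Z)
      (IsLocalRing.maximalIdeal_le_jacobson _) fun z hz => ?_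
    have hd : dL (f :: l) j k (inrL f l j z) = 0 := by
      apply ext_pair f l (rfl : k + 1 = k + 1)
      · rw [fst_d f l hjk rfl, fst_inr, map_zero, neg_zero, map_zero]
      · rw [snd_d f l hjk, fst_inr, snd_inr, smul_zero, zero_add, show dL l j k z = 0 from hz, map_zero]
    obtain ⟨x, hx⟩ := (h i j k hij hjk hj (inrL f l j z)).1 hd
    have h1 := congrArg (sndL f l j) hx
    rw [snd_d f l hij, snd_inr] at h1
    have h2 := congrArg (fstL f l j k hjk) hx
    rw [fst_d f l hij hjk, fst_inr, neg_eq_zero] at h2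
    rw [← h1, add_comm]
    exact Submodule.add_mem_sup ⟨_, rfl⟩ (Submodule.smul_mem_smul hf h2)
  intro y
  exact ⟨fun hy => key hy, by rintro ⟨w, rfl⟩; exact dL_dL l i j k w⟩

theorem Ex.regular_head {f : R} {l : List R} (h : Ex (f :: l)) (y : R)
    (hy : f * y ∈ Ideal.ofList l) : y ∈ Ideal.ofList l := by
  rw [range_d_zero] at hy
  obtain ⟨b, hb⟩ := hy
  let a : X l 0 := (e0 l).symm y
  have hb' : dL l (-1) 0 b = f • a := by
    apply (e0 l).injective
    rw [map_smul, LinearEquiv.apply_symm_apply, smul_eq_mul]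
    exact hb
  let x := inlL f l (-1) 0 (by norm_num) a - inrL f l (-1) b
  haveI := subsingleton_of_outside l 1 (Or.inl one_pos)
  have hx : dL (f :: l) (-1) 0 x = 0 := by
    apply ext_pair f l (zero_add (1 : ℤ))
    · exact Subsingleton.elim _ _
    · rw [snd_d f l (by norm_num), map_sub, fst_inl, fst_inr, sub_zero, map_sub, snd_inl, snd_inr, zero_sub,
        map_neg, hb', add_neg_cancel, map_zero]
  obtain ⟨w, hw⟩ := (h (-2) (-1) 0 (by norm_num) (by norm_num) (by norm_num) x).1 hx
  have h2 := congrArg (fstL f l (-1) 0 (by norm_num)) hw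
  rw [fst_d f l (by norm_num : (-2 : ℤ) + 1 = -1), map_sub, fst_inl, fst_inr, sub_zero] at h2
  rw [range_d_zero]
  refine ⟨-fstL f l (-2) (-1) (by norm_num) w, ?_⟩
  rw [map_neg, h2]
  exact (e0 l).apply_symm_apply y

theorem regStep_reverse : ∀ l : List R, (∀ x ∈ l, x ∈ maximalIdeal R) → Ex l → RegStep l.reverse
  | [], _, _ => by intro k hk; simp at hk
  | f :: l, hl, h => by
    have ih := regStep_reverse l (fun x hx => hl x (List.mem_cons_of_mem _ hx))
      (Ex.tail (hl f List.mem_cons_self) h)
    intro k hk y hy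
    simp only [List.reverse_cons] at hy ⊢
    simp only [List.reverse_cons, List.length_append, List.length_singleton] at hk
    rcases (Nat.lt_succ_iff.1 hk).lt_or_eq with hlt | heq
    · rw [List.take_append_of_le_length hlt.le] at hy ⊢
      rw [List.getElem_append_left hlt] at hy
      exact ih k hlt y hy
    · subst heq
      rw [List.take_append_of_le_length le_rfl, List.take_length] at hy ⊢
      rw [List.getElem_append_right le_rfl] at hy
      simp only [Nat.sub_self, List.getElem_cons_zero] at hy
      have e : Ideal.ofList l.reverse = Ideal.ofList l := by simp [Ideal.ofList]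
      rw [e] at hy ⊢
      exact Ex.regular_head h y hy

end Koszul

section Local

open Groth.Agent.KoszulLib

/-- A Koszul-regular ideal is generated by a regular sequence in every local ring. -/
theorem exists_regStep_of_isKoszulRegularIdeal {R : Type u} [CommRing R] [IsNoetherianRing R] {I : Ideal R}
    (h : LCI.IsKoszulRegularIdeal I) (Q : Ideal R) [hQ : Q.IsPrime] (hle : I ≤ Q) :
    ∃ rs : List (Localization.AtPrime Q), RegStep rs ∧
      I.map (algebraMap R (Localization.AtPrime Q)) = Ideal.ofList rs := by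
  obtain ⟨g, hg, l, hl, hI⟩ := h ⟨Q, hQ⟩ hle
  let L := Localization.AtPrime Q
  let S := Localization.Away g
  have hu : IsUnit (algebraMap R L g) := IsLocalization.map_units L (⟨g, hg⟩ : Q.primeCompl)
  letI : Algebra S L := (IsLocalization.Away.lift g hu).toAlgebra
  haveI : IsScalarTower R S L :=
    IsScalarTower.of_algebraMap_eq' (IsLocalization.Away.lift_comp g hu).symm
  haveI : IsLocalization (Algebra.algebraMapSubmonoid S Q.primeCompl) L :=
    IsLocalization.isLocalization_of_submonoid_le S L (Submonoid.powers g) Q.primeCompl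
      ((Submonoid.powers_le).2 hg)
  haveI : Module.Flat S L := IsLocalization.flat L (Algebra.algebraMapSubmonoid S Q.primeCompl)
  haveI : IsNoetherianRing L := IsLocalization.isNoetherianRing Q.primeCompl L inferInstance
  have hEx := ((ex_iff l).2 hl).baseChange (S := L)
  have hIL : I.map (algebraMap R L) = Ideal.ofList (l.map (algebraMap S L)) := by
    rw [IsScalarTower.algebraMap_eq R S L, ← Ideal.map_map, hI, ← Ideal.map_ofList]
  refine ⟨(l.map (algebraMap S L)).reverse, regStep_reverse _ (fun x hx => ?_) hEx, ?_⟩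
  · have hxm : x ∈ I.map (algebraMap R L) := hIL ▸ Ideal.subset_span hx
    rw [← IsLocalization.AtPrime.map_eq_maximalIdeal Q L]
    exact Ideal.map_mono hle hxm
  · rw [hIL]
    simp [Ideal.ofList]
    rfl

end Local

end Groth.Agent.RelLift
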